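import Groth.Agent.LimModel.FgSubalgebra
import Mathlib.FieldTheory.IsAlgClosed.Classification
import Mathlib.AlgebraicGeometry.AlgClosed.Basic
import Mathlib.AlgebraicGeometry.ResidueField

/-!
Countability of finite type schemes over countable rings; very general points of schemes over
uncountable algebraically closed fields; isomorphisms of algebraically closed fields over a countable subfield.
-/

set_option autoImplicit false
set_option backward.isDefEq.respectTransparency false
set_option backward.isDefEq.respectTransparency.types false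
set_option linter.style.haveILetI false
universe u
open CategoryTheory CategoryTheory.Limits AlgebraicGeometry Cardinal

namespace Groth.Agent.VeryGen

/-- two algebraically closed fields of the same uncountable cardinality over a countable field
are isomorphic over it -/
theorem exists_ringEquiv_comp {R K L : Type u} [Field R] [Field K] [Field L] [IsAlgClosed K] [IsAlgClosed L]
    (a : R →+* K) (b : R →+* L) (hR : #R ≤ ℵ₀) (hK : ℵ₀ < #K) (hKL : #K = #L) :
    ∃ σ : K ≃+* L, σ.toRingHom.comp a = b := by
  letI := a.toAlgebra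
  letI := b.toAlgebra
  obtain ⟨s, hs⟩ := exists_isTranscendenceBasis R K
  obtain ⟨t, ht⟩ := exists_isTranscendenceBasis R L
  have h1 := IsAlgClosed.cardinal_eq_cardinal_transcendence_basis_of_aleph0_lt' _ hs hR hK
  have h2 := IsAlgClosed.cardinal_eq_cardinal_transcendence_basis_of_aleph0_lt' _ ht hR (hKL ▸ hK)
  obtain ⟨e⟩ := Cardinal.eq.1 (h1.symm.trans (hKL.trans h2))
  letI := IsAlgClosed.isAlgClosure_of_transcendence_basis _ hs
  letI := IsAlgClosed.isAlgClosure_of_transcendence_basis _ ht
  let E : Algebra.adjoin R (Set.range (Subtype.val : s → K)) ≃ₐ[R]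
      Algebra.adjoin R (Set.range (Subtype.val : t → L)) :=
    (hs.1.aevalEquiv.symm.trans (MvPolynomial.renameEquiv R e)).trans ht.1.aevalEquiv
  refine ⟨IsAlgClosure.equivOfEquiv K L E.toRingEquiv, RingHom.ext fun r => ?_⟩
  have := IsAlgClosure.equivOfEquiv_algebraMap K L E.toRingEquiv (algebraMap R _ r)
  exact (congrArg (IsAlgClosure.equivOfEquiv K L E.toRingEquiv) (IsScalarTower.algebraMap_apply R
      (Algebra.adjoin R (Set.range (Subtype.val : s → K))) K r)).trans (this.trans
    ((congrArg (algebraMap _ L) (E.commutes r)).trans (IsScalarTower.algebraMap_apply R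
      (Algebra.adjoin R (Set.range (Subtype.val : t → L))) L r).symm))

theorem mk_le_of_finiteType {R S : Type u} [CommRing R] [CommRing S] (φ : R →+* S) (h : φ.FiniteType) :
    #S ≤ max #R ℵ₀ := by
  letI := φ.toAlgebra
  haveI : Algebra.FiniteType R S := h
  obtain ⟨n, g, hg⟩ := Algebra.FiniteType.iff_quotient_mvPolynomial''.1 ‹Algebra.FiniteType R S›
  refine (mk_le_of_surjective hg).trans (MvPolynomial.cardinalMk_le_max_lift.trans ?_)
  simp only [Cardinal.lift_uzero, Cardinal.mk_fin, Cardinal.lift_natCast]
  exact max_le (max_le (le_max_left _ _) ((natCast_le_aleph0).trans (le_max_right _ _))) (le_max_right _ _)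

section
variable {k : Type u} [CommRing k] {X : Scheme.{u}} (g : X ⟶ Spec (CommRingCat.of k)) [LocallyOfFiniteType g]

include g in
theorem mk_sections_le {V : X.Opens} (hV : IsAffineOpen V) : #Γ(X, V) ≤ max #k ℵ₀ := by
  refine (mk_le_of_finiteType (((g.appLE ⊤ V le_top).hom).comp (Scheme.ΓSpecIso (CommRingCat.of k)).inv.hom) ?_)
  exact (g.finiteType_appLE (isAffineOpen_top _) hV le_top).comp
    (RingHom.FiniteType.of_surjective _ (Scheme.ΓSpecIso (CommRingCat.of k)).commRingCatIsoToRingEquiv.symm.surjective)

include g in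
theorem mk_residueField_le (x : X) : #(X.residueField x) ≤ max #k ℵ₀ := by
  obtain ⟨V, hV, hx, -⟩ := exists_isAffineOpen_mem_and_subset (X := X) (U := ⊤) (x := x) trivial
  haveI := hV.isLocalization_stalk ⟨x, hx⟩
  letI := X.presheaf.algebra_section_stalk (⟨x, hx⟩ : V)
  refine (mk_le_of_surjective (X.residue_surjective x)).trans ?_
  have : Function.Surjective fun p : Γ(X, V) × (hV.primeIdealOf ⟨x, hx⟩).asIdeal.primeCompl =>
      (IsLocalization.mk' (X.presheaf.stalk x) p.1 p.2) := fun z => by
    obtain ⟨a, b, h⟩ := IsLocalization.exists_mk'_eq (hV.primeIdealOf ⟨x, hx⟩).asIdeal.primeCompl z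
    exact ⟨(a, b), h⟩
  refine (mk_le_of_surjective this).trans ?_
  rw [mk_prod, Cardinal.lift_id, Cardinal.lift_id]
  have h1 := mk_sections_le g hV
  refine (mul_le_mul' h1 ((mk_set_le _).trans h1)).trans ?_
  rw [Cardinal.mul_eq_self (le_max_right _ _)]

theorem finiteType_sections {V : X.Opens} (hV : IsAffineOpen V) :
    (((g.appLE ⊤ V le_top).hom).comp (Scheme.ΓSpecIso (CommRingCat.of k)).inv.hom).FiniteType :=
  (g.finiteType_appLE (isAffineOpen_top _) hV le_top).comp
    (RingHom.FiniteType.of_surjective _ (Scheme.ΓSpecIso (CommRingCat.of k)).commRingCatIsoToRingEquiv.symm.surjective)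

include g in
/-- a scheme of finite type over a countable Noetherian ring has countably many points -/
theorem countable_points [CompactSpace X] [IsNoetherianRing k] (hk : #k ≤ ℵ₀) : Countable X := by
  classical
  choose V hV hx _ using fun x : X => exists_isAffineOpen_mem_and_subset (X := X) (U := ⊤) (x := x) trivial
  obtain ⟨t, ht⟩ := isCompact_univ.elim_finite_subcover (fun x => (V x : Set X)) (fun x => (V x).isOpen)
    fun x _ => Set.mem_iUnion.2 ⟨x, hx x⟩
  rw [← Set.countable_univ_iff]
  refine (t.countable_toSet.biUnion fun x _ => ?_).mono ht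
  haveI : Countable Γ(X, V x) := mk_le_aleph0_iff.1 ((mk_sections_le g (hV x)).trans (max_le hk le_rfl))
  haveI : IsNoetherianRing Γ(X, V x) := by
    letI := (((g.appLE ⊤ (V x) le_top).hom).comp (Scheme.ΓSpecIso (CommRingCat.of k)).inv.hom).toAlgebra
    exact Algebra.FiniteType.isNoetherianRing k Γ(X, V x) (h := finiteType_sections g (hV x))
  haveI : Countable (Ideal Γ(X, V x)) := Function.Surjective.countable
    (f := fun s : Finset Γ(X, V x) => Ideal.span (s : Set Γ(X, V x))) fun I => IsNoetherian.noetherian I
  haveI : Countable (PrimeSpectrum Γ(X, V x)) :=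
    Function.Injective.countable (f := PrimeSpectrum.asIdeal) fun a b h => PrimeSpectrum.ext h
  haveI : Countable (Spec Γ(X, V x)) := inferInstanceAs (Countable (PrimeSpectrum Γ(X, V x)))
  rw [← (hV x).range_fromSpec]
  exact Set.countable_range _

end

section
variable {k : Type u} [Field k] {X : Scheme.{u}} (g : X ⟶ Spec (CommRingCat.of k)) [LocallyOfFiniteType g]

include g in
theorem mk_residueField_eq [Infinite k] (x : X) : #(X.residueField x) = #k := by
  have hk : ℵ₀ ≤ #k := aleph0_le_mk k
  refine le_antisymm ((mk_residueField_le g x).trans (max_le le_rfl hk)) ?_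
  exact mk_le_of_injective ((g.residueFieldMap x).hom.comp
    (((Spec (CommRingCat.of k)).residue (g x)).hom.comp (((Spec (CommRingCat.of k)).presheaf.germ ⊤ (g x) trivial).hom.comp
      (Scheme.ΓSpecIso (CommRingCat.of k)).inv.hom))).injective

end

/-- a scheme is very generally isomorphic along fibres: transport along a base change -/
theorem nonempty_pullback_iso {X T X₀ T₀ : Scheme.{u}} {f : X ⟶ T} {f₀ : X₀ ⟶ T₀} {p : T ⟶ T₀} {q : X ⟶ X₀}
    (h : IsPullback q f f₀ p) {S S' : Scheme.{u}} (a : S ⟶ T) (a' : S' ⟶ T) (e : S ≅ S')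
    (he : e.hom ≫ a' ≫ p = a ≫ p) : Nonempty (pullback f a ≅ pullback f a') := by
  have h1 := (IsPullback.of_hasPullback f a).paste_horiz h
  have h2 := (IsPullback.of_hasPullback f a').paste_horiz h
  exact ⟨h1.isoPullback ≪≫ asIso (pullback.map f₀ (a ≫ p) f₀ (a' ≫ p) (𝟙 _) e.hom (𝟙 _) (by simp) (by simpa using he.symm)) ≪≫
    h2.isoPullback.symm⟩

end Groth.Agent.VeryGen
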